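import Groth.Agent.Lib.SurfNef
import Groth.Agent.H26.InterDiv
import Groth.Agent.Lib.AVKunneth
import Groth.Agent.FComplLib.IdealComap
import Groth.Agent.FibDim.BaseField
import Groth.Agent.S1582
import Groth.Agent.S8914
import Groth.Agent.S10855
import Groth.Agent.S15990

/-!
The Castelnuovo-Severi inequality on a product of two curves.
-/

set_option autoImplicit false
set_option linter.style.haveILetI false
set_option linter.unusedSectionVars false
set_option backward.isDefEq.respectTransparency false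
set_option backward.isDefEq.respectTransparency.types false
set_option maxHeartbeats 1000000

universe u

open CategoryTheory CategoryTheory.Limits AlgebraicGeometry TopologicalSpace Opposite
open Groth.Agent.H23

noncomputable section

namespace Groth.Agent.CastSev

attribute [local instance] PicMul.clMonoid

section Quadratic

variable (k : Type u) [Field k] {X : Scheme.{u}} [X.Over (Spec (CommRingCat.of k))]
  [IsProper (X ↘ Spec (CommRingCat.of k))] [Smooth (X ↘ Spec (CommRingCat.of k))] [IsIntegral X]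

/-- An invertible module pairing as a combination of two given ones. -/
theorem exists_comb (hdim : topologicalKrullDim X ≤ 2) {A B : X.Modules} (hA : PicF.IsInvertible A)
    (hB : PicF.IsInvertible B) (a b : ℤ) :
    ∃ (V : X.Modules) (_ : PicF.IsInvertible V), ∀ {C : X.Modules}, PicF.IsInvertible C →
      SurfPairing.pair k (PicF.cl C) (PicF.cl V) =
        a * SurfPairing.pair k (PicF.cl C) (PicF.cl A) + b * SurfPairing.pair k (PicF.cl C) (PicF.cl B) := by
  obtain ⟨A', hA', eA⟩ := SurfAdj.exists_smul k hdim hA a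
  obtain ⟨B', hB', eB⟩ := SurfAdj.exists_smul k hdim hB b
  refine ⟨_, PicMul.isInvertible_tensor hA' hB', fun hC => ?_⟩
  rw [PicMul.cl_tensor, SurfPairing.pair_mul k hdim hC hA' hB', eA hC, eB hC]

theorem pair_self_comb (hdim : topologicalKrullDim X ≤ 2) {A B V : X.Modules} (hA : PicF.IsInvertible A)
    (hB : PicF.IsInvertible B) (hV : PicF.IsInvertible V) (a b : ℤ)
    (e : ∀ {C : X.Modules}, PicF.IsInvertible C → SurfPairing.pair k (PicF.cl C) (PicF.cl V) =
        a * SurfPairing.pair k (PicF.cl C) (PicF.cl A) + b * SurfPairing.pair k (PicF.cl C) (PicF.cl B)) :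
    SurfPairing.pair k (PicF.cl V) (PicF.cl V) = a * (a * SurfPairing.pair k (PicF.cl A) (PicF.cl A)) +
      2 * (a * (b * SurfPairing.pair k (PicF.cl A) (PicF.cl B))) + b * (b * SurfPairing.pair k (PicF.cl B) (PicF.cl B)) := by
  rw [e hV, SurfPairing.pair_comm k (PicF.cl V) (PicF.cl A), SurfPairing.pair_comm k (PicF.cl V) (PicF.cl B),
    e hA, e hB, SurfPairing.pair_comm k (PicF.cl B) (PicF.cl A)]
  ring

/-- `(DD)(HH) ≤ (DH)²`. -/
theorem mul_le_sq (hdim : topologicalKrullDim X = 2) {D H : X.Modules} (hD : PicF.IsInvertible D)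
    (hH : CohB1.IsAmple H) :
    SurfPairing.pair k (PicF.cl D) (PicF.cl D) * SurfPairing.pair k (PicF.cl H) (PicF.cl H) ≤
      SurfPairing.pair k (PicF.cl D) (PicF.cl H) ^ 2 := by
  have hp := SurfNef.ample_self_pos (k := k) hdim hH
  let h := SurfPairing.pair k (PicF.cl H) (PicF.cl H)
  let c := SurfPairing.pair k (PicF.cl D) (PicF.cl H)
  obtain ⟨V, hV, e⟩ := exists_comb k hdim.le hD hH.1 h (-c)
  have h0 : SurfPairing.pair k (PicF.cl V) (PicF.cl H) = 0 := by
    rw [SurfPairing.pair_comm, e hH.1, SurfPairing.pair_comm k (PicF.cl H) (PicF.cl D)]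
    ring
  have h1 := SurfHodge.hodge_index (k := k) hdim hH hV h0
  rw [pair_self_comb k hdim.le hD hH.1 hV h (-c) e] at h1
  by_contra hn
  push_neg at hn
  nlinarith [mul_pos hp (sub_pos.2 hn)]

/-- A symmetric form negative on all combinations of two classes obeys Cauchy-Schwarz. -/
theorem cauchy {p r q : ℤ} (h : ∀ a b : ℤ, 0 ≤ a * (a * p) + 2 * (a * (b * r)) + b * (b * q)) : r ^ 2 ≤ p * q := by
  have hp : 0 ≤ p := by have := h 1 0; linarith
  have hq : 0 ≤ q := by have := h 0 1; linarith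
  rcases hq.lt_or_eq with hq | rfl
  · have := h q (-r)
    nlinarith
  · have h1 := h 1 (-(p + 1) * r)
    nlinarith [mul_nonneg hp (sq_nonneg r)]

variable (hdim : topologicalKrullDim X = 2) {A₁ A₂ : X.Modules} (hA₁ : PicF.IsInvertible A₁)
  (hA₂ : PicF.IsInvertible A₂) (h11 : SurfPairing.pair k (PicF.cl A₁) (PicF.cl A₁) = 0)
  (h22 : SurfPairing.pair k (PicF.cl A₂) (PicF.cl A₂) = 0) (h12 : SurfPairing.pair k (PicF.cl A₁) (PicF.cl A₂) = 1)

include hdim hA₁ hA₂ h11 h22 h12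

/-- The defect form of two isotropic classes of pairing one is nonnegative. -/
theorem defect_nonneg {L : X.Modules} (hL : PicF.IsInvertible L) :
    SurfPairing.pair k (PicF.cl L) (PicF.cl L) ≤
      2 * SurfPairing.pair k (PicF.cl A₁) (PicF.cl L) * SurfPairing.pair k (PicF.cl A₂) (PicF.cl L) := by
  obtain ⟨H, hH⟩ := SurfAdj.exists_ample k hdim
  have hP := PicMul.isInvertible_tensor hA₁ hA₂
  have hPP : SurfPairing.pair k (PicF.cl (CohB1.tensorMod A₁ A₂)) (PicF.cl (CohB1.tensorMod A₁ A₂)) = 2 := by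
    conv_lhs => arg 3; rw [PicMul.cl_tensor]
    rw [SurfPairing.pair_mul k hdim.le hP hA₁ hA₂,
      SurfPairing.pair_comm k _ (PicF.cl A₁), SurfPairing.pair_comm k _ (PicF.cl A₂), PicMul.cl_tensor,
      SurfPairing.pair_mul k hdim.le hA₁ hA₁ hA₂, SurfPairing.pair_mul k hdim.le hA₂ hA₁ hA₂, h11, h22,
      SurfPairing.pair_comm k (PicF.cl A₂) (PicF.cl A₁), h12]
    norm_num
  let x := SurfPairing.pair k (PicF.cl A₁) (PicF.cl L)
  let y := SurfPairing.pair k (PicF.cl A₂) (PicF.cl L)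
  obtain ⟨V, hV, eV⟩ := exists_comb k hdim.le hA₁ hA₂ (-y) (-x)
  have hW := PicMul.isInvertible_tensor hL hV
  have key : ∀ {C : X.Modules}, PicF.IsInvertible C →
      SurfPairing.pair k (PicF.cl C) (PicF.cl (CohB1.tensorMod L V)) = SurfPairing.pair k (PicF.cl C) (PicF.cl L) +
        (-y * SurfPairing.pair k (PicF.cl C) (PicF.cl A₁) + -x * SurfPairing.pair k (PicF.cl C) (PicF.cl A₂)) :=
    fun hC => by rw [PicMul.cl_tensor, SurfPairing.pair_mul k hdim.le hC hL hV, eV hC]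
  have e1 : SurfPairing.pair k (PicF.cl A₁) (PicF.cl (CohB1.tensorMod L V)) = 0 := by
    rw [key hA₁, h11, h12]; ring
  have e2 : SurfPairing.pair k (PicF.cl A₂) (PicF.cl (CohB1.tensorMod L V)) = 0 := by
    rw [key hA₂, h22, SurfPairing.pair_comm k (PicF.cl A₂) (PicF.cl A₁), h12]; ring
  have horth : SurfPairing.pair k (PicF.cl (CohB1.tensorMod A₁ A₂)) (PicF.cl (CohB1.tensorMod L V)) = 0 := by
    rw [SurfPairing.pair_comm, PicMul.cl_tensor A₁ A₂, SurfPairing.pair_mul k hdim.le hW hA₁ hA₂,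
      SurfPairing.pair_comm k _ (PicF.cl A₁), SurfPairing.pair_comm k _ (PicF.cl A₂), e1, e2, add_zero]
  have h := SurfHodge.hodge_index' (k := k) hdim hH hP hW (by rw [hPP]; norm_num) horth
  rw [key hW, SurfPairing.pair_comm k _ (PicF.cl L), SurfPairing.pair_comm k _ (PicF.cl A₁),
    SurfPairing.pair_comm k _ (PicF.cl A₂), e1, e2, key hL, SurfPairing.pair_comm k (PicF.cl L) (PicF.cl A₁),
    SurfPairing.pair_comm k (PicF.cl L) (PicF.cl A₂)] at h
  simp only [x, y] at h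
  linarith

/-- Cauchy-Schwarz for the defect form. -/
theorem defect_cauchy {L L' : X.Modules} (hL : PicF.IsInvertible L) (hL' : PicF.IsInvertible L') :
    (SurfPairing.pair k (PicF.cl L) (PicF.cl L') -
        SurfPairing.pair k (PicF.cl A₁) (PicF.cl L) * SurfPairing.pair k (PicF.cl A₂) (PicF.cl L') -
        SurfPairing.pair k (PicF.cl A₂) (PicF.cl L) * SurfPairing.pair k (PicF.cl A₁) (PicF.cl L')) ^ 2 ≤
      (2 * SurfPairing.pair k (PicF.cl A₁) (PicF.cl L) * SurfPairing.pair k (PicF.cl A₂) (PicF.cl L) -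
          SurfPairing.pair k (PicF.cl L) (PicF.cl L)) *
        (2 * SurfPairing.pair k (PicF.cl A₁) (PicF.cl L') * SurfPairing.pair k (PicF.cl A₂) (PicF.cl L') -
          SurfPairing.pair k (PicF.cl L') (PicF.cl L')) := by
  refine cauchy fun a b => ?_
  obtain ⟨V, hV, e⟩ := exists_comb k hdim.le hL hL' a (-b)
  have h := defect_nonneg k hdim hA₁ hA₂ h11 h22 h12 hV
  rw [pair_self_comb k hdim.le hL hL' hV a (-b) e, e hA₁, e hA₂] at h
  nlinarith

end Quadratic

section Fibre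

/-- An invertible module on a one-point scheme is trivial. -/
theorem cl_eq_one_of_point {P : Scheme.{u}} [Subsingleton P] [Nonempty P] {M : P.Modules}
    (hM : PicF.IsInvertible M) : PicF.cl M = (1 : PicF.Cl P) := by
  obtain ⟨p⟩ := (inferInstance : Nonempty P)
  obtain ⟨U, hp, e, he⟩ := InvX.exists_frame hM p
  obtain rfl : U = ⊤ := top_le_iff.1 fun q _ => by rw [Subsingleton.elim q p]; exact hp
  exact (PicMul.cl_eq_iff.2 (TrivBasic.triv_of_frame he)).trans PicMul.one_def.symm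

variable (k : Type u) [Field k]

/-- The class of a fibre, with its pairing. -/
theorem exists_fibre {X C D : Scheme.{u}} [X.Over (Spec (CommRingCat.of k))] [IsProper (X ↘ Spec (CommRingCat.of k))]
    [C.Over (Spec (CommRingCat.of k))] [IsProper (C ↘ Spec (CommRingCat.of k))]
    [D.Over (Spec (CommRingCat.of k))] [IsProper (D ↘ Spec (CommRingCat.of k))] [Smooth (D ↘ Spec (CommRingCat.of k))]
    [IsIntegral D] (hD : topologicalKrullDim D = 1) (π : X ⟶ D) [Flat π]
    (y : Spec (CommRingCat.of k) ⟶ D) (hy : y ≫ (D ↘ Spec (CommRingCat.of k)) = 𝟙 _)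
    (i : C ⟶ X) (hi : IsPullback i (C ↘ Spec (CommRingCat.of k)) π y)
    (hiC : i ≫ (X ↘ Spec (CommRingCat.of k)) = C ↘ Spec (CommRingCat.of k))
    (j : D ⟶ X) (hj : j ≫ π = 𝟙 D) :
    ∃ (A : X.Modules) (_ : PicF.IsInvertible A),
      (∀ {M : X.Modules}, PicF.IsInvertible M → SurfPairing.pair k (PicF.cl A) (PicF.cl M) =
        -Curv2.deg k C ((Scheme.Modules.pullback i).obj M) 1) ∧
      Curv2.deg k C ((Scheme.Modules.pullback i).obj A) 1 = 0 ∧
      Curv2.deg k D ((Scheme.Modules.pullback j).obj A) 1 = -1 := by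
  haveI := CurveCohLib.isNoetherian_of_proper (k := k) (X := X)
  haveI : IsClosedImmersion (y ≫ (D ↘ Spec (CommRingCat.of k))) := by rw [hy]; infer_instance
  haveI : IsClosedImmersion y := IsClosedImmersion.of_comp y (D ↘ Spec (CommRingCat.of k))
  haveI : IsClosedImmersion i := MorphismProperty.of_isPullback hi.flip inferInstance
  haveI := CurveFin.smoothOfRelativeDimension_of_dim (f := D ↘ Spec (CommRingCat.of k)) (d := 1) hD
  have hJ : BlowUp.IsEffCartierIdeal y.ker := (S15990.result (D ↘ Spec (CommRingCat.of k)) y hy).1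
  have hker : i.ker = y.ker.comap π := FComplLib.ker_of_isPullback hi
  have hI : BlowUp.IsEffCartierIdeal i.ker := hker ▸ S10855.result π _ hJ
  obtain ⟨e⟩ := H26.InterDiv.nonempty_pullback_idealMod π y.ker hJ (hker ▸ hI)
  have hc : PicF.cl (ClSub.idealMod i.ker) = PicF.pullCl π (PicF.cl (ClSub.idealMod y.ker)) := by
    rw [hker]
    exact (PicMul.cl_eq_iff.2 ⟨e⟩).symm
  have hJi := (S8914.result _).2 hJ
  have hIi := (S8914.result _).2 hI
  have hdegcl : ∀ {Y : Scheme.{u}} [Y.Over (Spec (CommRingCat.of k))] {M N : Y.Modules},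
      PicF.cl M = PicF.cl N → Curv2.deg k Y M 1 = Curv2.deg k Y N 1 := by
    intro Y _ M N h
    obtain ⟨φ⟩ := PicMul.cl_eq_iff.1 h
    unfold Curv2.deg
    rw [CurveCohLib.euler_congr (k := k) φ]
  refine ⟨ClSub.idealMod i.ker, hIi, fun {M} hM => ?_, ?_, ?_⟩
  · have h := CurveOnSurf.pair_ideal (k := k) i hM hIi
    have hO : (⟨i ≫ (X ↘ (Spec (CommRingCat.of k)))⟩ : C.Over (Spec (CommRingCat.of k))) = ‹C.Over _› := by
      rcases ‹C.Over (Spec (CommRingCat.of k))› with ⟨g⟩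
      exact congrArg OverClass.ofHom hiC
    rw [hO] at h
    exact h
  · refine (hdegcl (N := Coh.structureModule C) ?_).trans (by simp [Curv2.deg])
    show PicF.pullCl i (PicF.cl (ClSub.idealMod i.ker)) = _
    rw [hc, PicClLib.pullCl_comp, hi.w, ← PicClLib.pullCl_comp]
    haveI : Subsingleton ↥(Spec (CommRingCat.of k)) := inferInstanceAs (Subsingleton (PrimeSpectrum k))
    rw [show PicF.pullCl y (PicF.cl (ClSub.idealMod y.ker)) = 1 from
      cl_eq_one_of_point (PicClLib.isInvertible_pullback y hJi), PicMul.pullCl_one, PicMul.one_def]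
  · refine (hdegcl (N := ClSub.idealMod y.ker) ?_).trans ?_
    · show PicF.pullCl j (PicF.cl (ClSub.idealMod i.ker)) = _
      rw [hc, PicClLib.pullCl_comp, hj, PicClLib.pullCl_id]
    · have h := CurveOnSurf.euler_ideal (k := k) y
      have hO : (⟨y ≫ (D ↘ (Spec (CommRingCat.of k)))⟩ : (Spec (CommRingCat.of k)).Over (Spec (CommRingCat.of k))) = ⟨𝟙 _⟩ :=
        congrArg OverClass.ofHom hy
      rw [hO, AVKunneth.euler_point] at h
      unfold Curv2.deg
      push_cast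
      linarith

end Fibre

section Product

variable (k : Type u) [Field k] [IsAlgClosed k] {C₁ C₂ : Scheme.{u}} [C₁.Over (Spec (CommRingCat.of k))]
  [C₂.Over (Spec (CommRingCat.of k))]

local notation "p₁" => (C₁ ↘ Spec (CommRingCat.of k))
local notation "p₂" => (C₂ ↘ Spec (CommRingCat.of k))

/-- The two fibre classes on a product of curves. -/
theorem exists_fibre_classes (h₁ : Curve.IsSmoothProperCurve k C₁ (C₁ ↘ Spec (CommRingCat.of k)))
    (h₂ : Curve.IsSmoothProperCurve k C₂ (C₂ ↘ Spec (CommRingCat.of k)))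
    (x : Spec (CommRingCat.of k) ⟶ C₁) (hx : x ≫ (C₁ ↘ Spec (CommRingCat.of k)) = 𝟙 _)
    (y : Spec (CommRingCat.of k) ⟶ C₂) (hy : y ≫ (C₂ ↘ Spec (CommRingCat.of k)) = 𝟙 _)
    (i₁ : C₁ ⟶ pullback p₁ p₂) (hi₁ : i₁ ≫ pullback.fst _ _ = 𝟙 C₁ ∧ i₁ ≫ pullback.snd _ _ = p₁ ≫ y)
    (i₂ : C₂ ⟶ pullback p₁ p₂) (hi₂ : i₂ ≫ pullback.snd _ _ = 𝟙 C₂ ∧ i₂ ≫ pullback.fst _ _ = p₂ ≫ x) :
    letI : (pullback p₁ p₂).Over (Spec (CommRingCat.of k)) := ⟨pullback.fst _ _ ≫ p₁⟩
    IsProper ((pullback p₁ p₂) ↘ Spec (CommRingCat.of k)) ∧ Smooth ((pullback p₁ p₂) ↘ Spec (CommRingCat.of k)) ∧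
      IsIntegral (pullback p₁ p₂) ∧ topologicalKrullDim (pullback p₁ p₂ : Scheme.{u}) = 2 ∧
      ∃ A₁ A₂ : (pullback p₁ p₂).Modules, PicF.IsInvertible A₁ ∧ PicF.IsInvertible A₂ ∧
        SurfPairing.pair k (PicF.cl A₁) (PicF.cl A₁) = 0 ∧ SurfPairing.pair k (PicF.cl A₂) (PicF.cl A₂) = 0 ∧
        SurfPairing.pair k (PicF.cl A₁) (PicF.cl A₂) = 1 ∧
        (∀ {M : (pullback p₁ p₂).Modules}, PicF.IsInvertible M →
          Curv2.deg k C₁ ((Scheme.Modules.pullback i₁).obj M) 1 = -SurfPairing.pair k (PicF.cl A₁) (PicF.cl M) ∧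
          Curv2.deg k C₂ ((Scheme.Modules.pullback i₂).obj M) 1 = -SurfPairing.pair k (PicF.cl A₂) (PicF.cl M)) := by
  letI : (pullback p₁ p₂).Over (Spec (CommRingCat.of k)) := ⟨pullback.fst _ _ ≫ p₁⟩
  obtain ⟨hP₁, hS₁, hI₁, hd₁⟩ := h₁
  obtain ⟨hP₂, hS₂, hI₂, hd₂⟩ := h₂
  haveI : IsProper ((pullback p₁ p₂) ↘ Spec (CommRingCat.of k)) :=
    inferInstanceAs (IsProper (pullback.fst p₁ p₂ ≫ p₁))
  haveI : Smooth ((pullback p₁ p₂) ↘ Spec (CommRingCat.of k)) :=
    inferInstanceAs (Smooth (pullback.fst p₁ p₂ ≫ p₁))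
  have hint : IsIntegral (pullback p₁ p₂) := S1582.result k C₁ C₂ p₁ p₂
  haveI : Subsingleton ↥(Spec (CommRingCat.of k)) := FibDim.subsingleton_spec_field k
  have hdim : topologicalKrullDim (pullback p₁ p₂ : Scheme.{u}) = 2 := by
    rw [FibDim.topologicalKrullDim_pullback, hd₁, hd₂]
    rfl
  have hsq₁ : IsPullback i₁ p₁ (pullback.snd p₁ p₂) y := by
    refine IsPullback.of_right ?_ hi₁.2 (IsPullback.of_hasPullback p₁ p₂)
    rw [hi₁.1, hy]
    exact IsPullback.of_horiz_isIso ⟨by simp⟩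
  have hsq₂ : IsPullback i₂ p₂ (pullback.fst p₁ p₂) x := by
    refine IsPullback.of_right ?_ hi₂.2 (IsPullback.of_hasPullback p₁ p₂).flip
    rw [hi₂.1, hx]
    exact IsPullback.of_horiz_isIso ⟨by simp⟩
  have hc₁ : i₁ ≫ ((pullback p₁ p₂) ↘ Spec (CommRingCat.of k)) = p₁ := by
    show i₁ ≫ pullback.fst p₁ p₂ ≫ p₁ = p₁
    rw [← Category.assoc, hi₁.1, Category.id_comp]
  have hc₂ : i₂ ≫ ((pullback p₁ p₂) ↘ Spec (CommRingCat.of k)) = p₂ := by
    show i₂ ≫ pullback.fst p₁ p₂ ≫ p₁ = p₂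
    rw [pullback.condition, ← Category.assoc, hi₂.1, Category.id_comp]
  obtain ⟨A₁, hA₁, q₁, z₁, o₁⟩ := exists_fibre k hd₂ (pullback.snd p₁ p₂) y hy i₁ hsq₁ hc₁ i₂ hi₂.1
  obtain ⟨A₂, hA₂, q₂, z₂, o₂⟩ := exists_fibre k hd₁ (pullback.fst p₁ p₂) x hx i₂ hsq₂ hc₂ i₁ hi₁.1
  refine ⟨inferInstance, inferInstance, hint, hdim, A₁, A₂, hA₁, hA₂, ?_, ?_, ?_, fun hM => ⟨?_, ?_⟩⟩
  · rw [q₁ hA₁, z₁, neg_zero]
  · rw [q₂ hA₂, z₂, neg_zero]
  · rw [q₁ hA₂, o₂, neg_neg]
  · rw [q₁ hM, neg_neg]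
  · rw [q₂ hM, neg_neg]

end Product

end Groth.Agent.CastSev
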